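import Cfsg.Agent.Lib.RankOne.AbelianExp

/-!
# The exponent of an abelian `Q`
-/

set_option autoImplicit false

namespace Cfsg.Agent.RankOne

variable {G Ω : Type*} [Group G] [MulAction G Ω] {a : Ω} {t : G} {Q : Subgroup G}

/-- An abelian 2-group `Q` has exponent dividing four (in fact two, `abelian_exponent_two`). -/
theorem abelian_exponent [Finite G] [FaithfulSMul G Ω] (hS : Cfsg.IsRankOneSetup G Ω a t Q)
    (h2 : ∃ x y : G, x ≠ 1 ∧ y ≠ 1 ∧ x ≠ y ∧ x * x = 1 ∧ y * y = 1 ∧ x * y = y * x)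
    (hP : IsPGroup 2 Q) (hab : ∀ x ∈ Q, ∀ y ∈ Q, x * y = y * x) : ∀ x ∈ Q, x ^ 4 = 1 := fun x hx => by
  rw [show (4 : ℕ) = 2 * 2 from rfl, pow_mul, pow_two x, abelian_exponent_two hS h2 hab hP x hx, one_pow]

end Cfsg.Agent.RankOne
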